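import Groth.Agent.ResProp.EF.Grp

/-!
# Interface of block G2d (OUT): killing pairs modulo `p`, definitions only (language: `EF/Grp.lean`)

`G` a group over `k`.  `KillPair p T O j e s`: the module `O` embeds (mod `p`) by `j` in the regular module `O(G)`
(a ↦ Δ a), contains an invariant vector `e` with `j e = 1`, and acts on `T` by `s : O ⊗ T → T`, which modulo `p` is a
map of modules with `s (e ⊗ t) = t`.

`Out p G`: every f.g. submodule of `O(G)` lies in `range j` for some killing pair with `T` finite free non zero.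
-/

set_option autoImplicit false

universe u

open TensorProduct

noncomputable section

namespace Groth.Agent.ResProp.EF.K749

open Grp

variable {k : Type u} [CommRing k]

/-- the product of two groups -/
abbrev prodGp (G G' : Gp k) : Gp k where
  O := G.O ⊗[k] G'.O

/-- the external tensor product, a module over the product group -/
abbrev extMod {G G' : Gp k} (M : GMod G) (M' : GMod G') : GMod (prodGp G G') where
  V := M.V ⊗[k] M'.V
  co := CoactBr.Comod.extTensor k k G.O M.V G'.O M'.V

/-- KILLING PAIR modulo `p`. -/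
structure KillPair (p : ℕ) {G : Gp k} (T O : GMod G) (j : O.V →ₗ[k] G.O) (e : O.V)
    (s : O.V ⊗[k] T.V →ₗ[k] T.V) : Prop where
  freeO : Module.Free k O.V
  inj : ∀ (o : O.V) (a : G.O), j o = (p : k) • a → ∃ o' : O.V, o = (p : k) • o'
  hom_j : ∀ o : O.V, (CoalgebraStruct.comul (R := k) (A := G.O)) (j o) = j.rTensor G.O (O.co.coact o)
  j_e : j e = 1
  inv_e : O.co.coact e = e ⊗ₜ[k] (1 : G.O)
  unit : ∀ t : T.V, ∃ t' : T.V, s (e ⊗ₜ[k] t) - t = (p : k) • t'
  hom_s : ∀ z : O.V ⊗[k] T.V, ∃ w : T.V ⊗[k] G.O,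
    T.co.coact (s z) - s.rTensor G.O ((O.tens T).co.coact z) = (p : k) • w

/-- OUT for the group `G`. -/
def Out (p : ℕ) (G : Gp k) : Prop :=
  ∀ W : Submodule k G.O, W.FG → ∃ (T O : GMod G) (j : O.V →ₗ[k] G.O) (e : O.V)
    (s : O.V ⊗[k] T.V →ₗ[k] T.V), IsLat T ∧ KillPair p T O j e s ∧ W ≤ LinearMap.range j

/-- OUT2: products. -/
def OutProd (p : ℕ) (k : Type u) [CommRing k] : Prop :=
  ∀ G G' : Gp k, Out p G → Out p G' → Out p (prodGp G G')

end Groth.Agent.ResProp.EF.K749
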