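import Groth.Agent.ResProp.EF.K749.OutDef
import Mathlib.LinearAlgebra.TensorProduct.Finiteness
import Mathlib.LinearAlgebra.TensorProduct.Basis
import Mathlib.LinearAlgebra.FreeModule.Basic
import Mathlib.LinearAlgebra.Dimension.Free

/-! # OUT2: killing pairs for products of groups -/

set_option autoImplicit false

universe u

open TensorProduct

noncomputable section

namespace Groth.Agent.ResProp.EF.K749

open Grp

section InjMod

variable {k : Type*} [CommRing k] {M N X : Type*} [AddCommGroup M] [Module k M] [AddCommGroup N]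
  [Module k N] [AddCommGroup X] [Module k X]

/-- injective modulo `c` -/
def InjMod (c : k) (f : M →ₗ[k] N) : Prop := ∀ (m : M) (n : N), f m = c • n → ∃ m' : M, m = c • m'

theorem InjMod.rTensor [Module.Free k X] {c : k} {f : M →ₗ[k] N} (hf : InjMod c f) :
    InjMod c (f.rTensor X) := by
  classical
  intro z w h
  let b := Module.Free.chooseBasis k X
  have nat : ∀ (z : M ⊗[k] X) (i), TensorProduct.equivFinsuppOfBasisRight b (f.rTensor X z) i =
      f (TensorProduct.equivFinsuppOfBasisRight b z i) := by
    intro z i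
    induction z with
    | zero => simp
    | add x y hx hy => simp only [map_add, Finsupp.add_apply, hx, hy]
    | tmul m x =>
      rw [LinearMap.rTensor_tmul, TensorProduct.equivFinsuppOfBasisRight_apply_tmul_apply,
        TensorProduct.equivFinsuppOfBasisRight_apply_tmul_apply, map_smul]
  have h1 : ∀ i, ∃ m' : M, TensorProduct.equivFinsuppOfBasisRight b z i = c • m' := by
    intro i
    refine hf _ (TensorProduct.equivFinsuppOfBasisRight b w i) ?_
    rw [← nat, h, map_smul, Finsupp.smul_apply]
  choose m' hm' using h1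
  refine ⟨∑ i ∈ (TensorProduct.equivFinsuppOfBasisRight b z).support, m' i ⊗ₜ[k] b i, ?_⟩
  have h2 : z = (TensorProduct.equivFinsuppOfBasisRight b).symm
      (TensorProduct.equivFinsuppOfBasisRight b z) := by simp
  rw [TensorProduct.equivFinsuppOfBasisRight_symm_apply] at h2
  conv_lhs => rw [h2]
  rw [Finsupp.sum, Finset.smul_sum]
  refine Finset.sum_congr rfl fun i _ => ?_
  rw [hm' i, TensorProduct.smul_tmul']

theorem InjMod.lTensor [Module.Free k X] {c : k} {f : M →ₗ[k] N} (hf : InjMod c f) :
    InjMod c (f.lTensor X) := by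
  intro z w h
  have nat : ∀ z : X ⊗[k] M, f.rTensor X (TensorProduct.comm k X M z) =
      TensorProduct.comm k X N (f.lTensor X z) := by
    intro z
    induction z with
    | zero => simp
    | add x y hx hy => simp only [map_add, hx, hy]
    | tmul x m => simp
  have h1 : f.rTensor X (TensorProduct.comm k X M z) = c • TensorProduct.comm k X N w := by
    rw [← map_smul, ← h, nat]
  obtain ⟨m, hm⟩ := hf.rTensor (X := X) _ _ h1
  refine ⟨(TensorProduct.comm k X M).symm m, ?_⟩
  rw [← map_smul, ← hm, LinearEquiv.symm_apply_apply]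

theorem InjMod.comp {c : k} {P : Type*} [AddCommGroup P] [Module k P] {f : M →ₗ[k] N}
    {g : N →ₗ[k] P} (hg : InjMod c g) (hf : InjMod c f) : InjMod c (g ∘ₗ f) := by
  intro m p h
  obtain ⟨n, hn⟩ := hg (f m) p h
  exact hf m n hn

end InjMod

variable {k : Type u} [CommRing k]

section Prod

variable {G G' : Gp k}

theorem coact_ext (M : GMod G) (M' : GMod G') (m : M.V) (m' : M'.V) :
    (extMod M M').co.coact (m ⊗ₜ[k] m') =
      AlgebraTensorModule.tensorTensorTensorComm k k k k M.V G.O M'.V G'.O
        (M.co.coact m ⊗ₜ[k] M'.co.coact m') := rfl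

theorem coact_tens (M N : GMod G) (m : M.V) (n : N.V) :
    (M.tens N).co.coact (m ⊗ₜ[k] n) =
      TensorProduct.map LinearMap.id (LinearMap.mul' k G.O)
        (AlgebraTensorModule.tensorTensorTensorComm k k k k M.V G.O N.V G.O
          (M.co.coact m ⊗ₜ[k] N.co.coact n)) := rfl

theorem isLat_ext {T : GMod G} {T' : GMod G'} (h : IsLat T) (h' : IsLat T') :
    IsLat (extMod T T') := by
  have := h.free
  have := h.fin
  have := h'.free
  have := h'.fin
  have := h.nontriv
  have := h'.nontriv
  have hk : Nontrivial k := Module.nontrivial k T.V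
  refine ⟨inferInstanceAs (Module.Free k (T.V ⊗[k] T'.V)),
    inferInstanceAs (Module.Finite k (T.V ⊗[k] T'.V)), ?_⟩
  let b := Module.Free.chooseBasis k T.V
  let b' := Module.Free.chooseBasis k T'.V
  obtain ⟨i⟩ := b.index_nonempty
  obtain ⟨i'⟩ := b'.index_nonempty
  exact nontrivial_of_ne _ _ ((b.tensorProduct b').ne_zero ⟨i, i'⟩)

/-- the product of two actions -/
def sProd {O T O' T' : Type u} [AddCommGroup O] [Module k O] [AddCommGroup T] [Module k T]
    [AddCommGroup O'] [Module k O'] [AddCommGroup T'] [Module k T']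
    (s : O ⊗[k] T →ₗ[k] T) (s' : O' ⊗[k] T' →ₗ[k] T') :
    (O ⊗[k] O') ⊗[k] (T ⊗[k] T') →ₗ[k] T ⊗[k] T' :=
  TensorProduct.map s s' ∘ₗ (TensorProduct.tensorTensorTensorComm k O O' T T').toLinearMap

@[simp] theorem sProd_tmul {O T O' T' : Type u} [AddCommGroup O] [Module k O] [AddCommGroup T]
    [Module k T] [AddCommGroup O'] [Module k O'] [AddCommGroup T'] [Module k T']
    (s : O ⊗[k] T →ₗ[k] T) (s' : O' ⊗[k] T' →ₗ[k] T') (o : O) (o' : O')
    (t : T) (t' : T') : sProd s s' ((o ⊗ₜ[k] o') ⊗ₜ[k] (t ⊗ₜ[k] t')) =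
      s (o ⊗ₜ[k] t) ⊗ₜ[k] s' (o' ⊗ₜ[k] t') := by
  simp [sProd]

/-- the key identity, on `x ∈ O ⊗ A`, `x' ∈ O' ⊗ A'`, `y ∈ T ⊗ A`, `y' ∈ T' ⊗ A'` -/
theorem key {O T O' T' A A' : Type u} [AddCommGroup O] [Module k O] [AddCommGroup T]
    [Module k T] [AddCommGroup O'] [Module k O'] [AddCommGroup T'] [Module k T']
    [CommRing A] [Algebra k A] [CommRing A'] [Algebra k A']
    (s : O ⊗[k] T →ₗ[k] T) (s' : O' ⊗[k] T' →ₗ[k] T')
    (x : O ⊗[k] A) (x' : O' ⊗[k] A') (y : T ⊗[k] A) (y' : T' ⊗[k] A') :
    AlgebraTensorModule.tensorTensorTensorComm k k k k T A T' A'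
      (s.rTensor A (TensorProduct.map LinearMap.id (LinearMap.mul' k A)
          (AlgebraTensorModule.tensorTensorTensorComm k k k k O A T A (x ⊗ₜ[k] y))) ⊗ₜ[k]
        s'.rTensor A' (TensorProduct.map LinearMap.id (LinearMap.mul' k A')
          (AlgebraTensorModule.tensorTensorTensorComm k k k k O' A' T' A' (x' ⊗ₜ[k] y')))) =
    (sProd s s').rTensor (A ⊗[k] A') (TensorProduct.map LinearMap.id (LinearMap.mul' k (A ⊗[k] A'))
      (AlgebraTensorModule.tensorTensorTensorComm k k k k (O ⊗[k] O') (A ⊗[k] A') (T ⊗[k] T')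
        (A ⊗[k] A')
        (AlgebraTensorModule.tensorTensorTensorComm k k k k O A O' A' (x ⊗ₜ[k] x') ⊗ₜ[k]
        AlgebraTensorModule.tensorTensorTensorComm k k k k T A T' A' (y ⊗ₜ[k] y')))) := by
  induction x using TensorProduct.induction_on with
  | zero => simp
  | add a b ha hb => simp only [map_add, TensorProduct.add_tmul, ha, hb]
  | tmul o a =>
    induction x' using TensorProduct.induction_on with
    | zero => simp
    | add a b ha hb =>
      simp only [map_add, TensorProduct.add_tmul, TensorProduct.tmul_add, ha, hb]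
    | tmul o' a' =>
      induction y using TensorProduct.induction_on with
      | zero => simp
      | add a b ha hb =>
        simp only [map_add, TensorProduct.add_tmul, TensorProduct.tmul_add, ha, hb]
      | tmul t b =>
        induction y' using TensorProduct.induction_on with
        | zero => simp
        | add a b ha hb =>
          simp only [map_add, TensorProduct.tmul_add, ha, hb]
        | tmul t' b' => simp

theorem KillPair.prod {p : ℕ} {T O : GMod G} {j : O.V →ₗ[k] G.O} {e : O.V}
    {s : O.V ⊗[k] T.V →ₗ[k] T.V} (h : KillPair p T O j e s)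
    {T' O' : GMod G'} {j' : O'.V →ₗ[k] G'.O} {e' : O'.V}
    {s' : O'.V ⊗[k] T'.V →ₗ[k] T'.V} (h' : KillPair p T' O' j' e' s') :
    KillPair p (extMod T T') (extMod O O') (TensorProduct.map j j') (e ⊗ₜ[k] e')
      (sProd s s') where
  freeO := by
    have := h.freeO
    have := h'.freeO
    exact inferInstanceAs (Module.Free k (O.V ⊗[k] O'.V))
  inj := by
    have := h.freeO
    have h1 : TensorProduct.map j j' = j.rTensor G'.O ∘ₗ j'.lTensor O.V := by
      rw [LinearMap.rTensor, LinearMap.lTensor, ← TensorProduct.map_comp, LinearMap.comp_id,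
        LinearMap.id_comp]
    have h2 : InjMod (p : k) (j.rTensor G'.O ∘ₗ j'.lTensor O.V) :=
      InjMod.comp (InjMod.rTensor h.inj) (InjMod.lTensor h'.inj)
    rw [h1]
    exact h2
  hom_j := by
    intro z
    induction z using TensorProduct.induction_on with
    | zero => simp
    | add x y hx hy => simp only [map_add, hx, hy]
    | tmul o o' =>
      rw [TensorProduct.map_tmul, coact_ext]
      have h3 : (CoalgebraStruct.comul (R := k) (A := G.O ⊗[k] G'.O)) (j o ⊗ₜ[k] j' o') =
          AlgebraTensorModule.tensorTensorTensorComm k k k k G.O G.O G'.O G'.O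
            (CoalgebraStruct.comul (R := k) (A := G.O) (j o) ⊗ₜ[k]
              CoalgebraStruct.comul (R := k) (A := G'.O) (j' o')) := rfl
      refine h3.trans ?_
      rw [h.hom_j, h'.hom_j]
      generalize O.co.coact o = x
      generalize O'.co.coact o' = y
      induction x using TensorProduct.induction_on with
      | zero => simp
      | add x x' hx hx' => simp only [map_add, TensorProduct.add_tmul, hx, hx']
      | tmul m a =>
        induction y using TensorProduct.induction_on with
        | zero => simp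
        | add y y' hy hy' => simp only [map_add, TensorProduct.tmul_add, hy, hy']
        | tmul n b => simp
  j_e := by
    rw [TensorProduct.map_tmul, h.j_e, h'.j_e]
    rfl
  inv_e := by
    rw [coact_ext, h.inv_e, h'.inv_e, AlgebraTensorModule.tensorTensorTensorComm_tmul]
    rfl
  unit := by
    intro t
    induction t using TensorProduct.induction_on with
    | zero => exact ⟨0, by simp⟩
    | add x y hx hy =>
      obtain ⟨a, ha⟩ := hx
      obtain ⟨b, hb⟩ := hy
      refine ⟨a + b, ?_⟩
      rw [TensorProduct.tmul_add, map_add, smul_add, ← ha, ← hb]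
      abel
    | tmul t t' =>
      obtain ⟨a, ha⟩ := h.unit t
      obtain ⟨b, hb⟩ := h'.unit t'
      refine ⟨a ⊗ₜ[k] s' (e' ⊗ₜ[k] t') + t ⊗ₜ[k] b, ?_⟩
      rw [sProd_tmul, smul_add, TensorProduct.smul_tmul', ← TensorProduct.tmul_smul, ← ha, ← hb,
        TensorProduct.sub_tmul, TensorProduct.tmul_sub]
      abel
  hom_s := by
    intro z
    induction z using TensorProduct.induction_on with
    | zero => exact ⟨0, by simp⟩
    | add x y hx hy =>
      obtain ⟨a, ha⟩ := hx
      obtain ⟨b, hb⟩ := hy
      refine ⟨a + b, ?_⟩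
      rw [smul_add, ← ha, ← hb]
      simp only [map_add]
      abel
    | tmul u v =>
      induction u using TensorProduct.induction_on with
      | zero => exact ⟨0, by simp⟩
      | add x y hx hy =>
        obtain ⟨a, ha⟩ := hx
        obtain ⟨b, hb⟩ := hy
        refine ⟨a + b, ?_⟩
        rw [smul_add, ← ha, ← hb]
        simp only [map_add, TensorProduct.add_tmul]
        abel
      | tmul o o' =>
        induction v using TensorProduct.induction_on with
        | zero => exact ⟨0, by simp⟩
        | add x y hx hy =>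
          obtain ⟨a, ha⟩ := hx
          obtain ⟨b, hb⟩ := hy
          refine ⟨a + b, ?_⟩
          rw [smul_add, ← ha, ← hb]
          simp only [map_add, TensorProduct.tmul_add]
          abel
        | tmul t t' =>
          obtain ⟨w, hw⟩ := h.hom_s (o ⊗ₜ[k] t)
          obtain ⟨w', hw'⟩ := h'.hom_s (o' ⊗ₜ[k] t')
          rw [coact_tens] at hw hw'
          rw [sProd_tmul, coact_ext, coact_tens, coact_ext, coact_ext, ← key]
          set X := s.rTensor G.O (TensorProduct.map LinearMap.id (LinearMap.mul' k G.O)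
            (AlgebraTensorModule.tensorTensorTensorComm k k k k O.V G.O T.V G.O
              (O.co.coact o ⊗ₜ[k] T.co.coact t))) with hX
          set X' := s'.rTensor G'.O (TensorProduct.map LinearMap.id (LinearMap.mul' k G'.O)
            (AlgebraTensorModule.tensorTensorTensorComm k k k k O'.V G'.O T'.V G'.O
              (O'.co.coact o' ⊗ₜ[k] T'.co.coact t'))) with hX'
          have e1 : T.co.coact (s (o ⊗ₜ[k] t)) = X + (p : k) • w := by rw [← hw]; abel
          have e2 : T'.co.coact (s' (o' ⊗ₜ[k] t')) = X' + (p : k) • w' := by rw [← hw']; abel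
          refine ⟨AlgebraTensorModule.tensorTensorTensorComm k k k k T.V G.O T'.V G'.O
            (w ⊗ₜ[k] (X' + (p : k) • w') + X ⊗ₜ[k] w'), ?_⟩
          rw [e1, e2, ← map_smul, ← map_sub]
          congr 1
          rw [smul_add, TensorProduct.smul_tmul', ← TensorProduct.tmul_smul, TensorProduct.add_tmul,
            TensorProduct.tmul_add X]
          abel

/-- OUT2. -/
theorem outProd (p : ℕ) (k : Type u) [CommRing k] : OutProd p k := by
  intro G G' hG hG' W hW
  obtain ⟨S, rfl⟩ := hW
  obtain ⟨W₁, W₂, h1, h2, h3⟩ := TensorProduct.exists_finite_submodule_of_setFinite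
    (S : Set (G.O ⊗[k] G'.O)) S.finite_toSet
  obtain ⟨T, O, j, e, s, hT, hK, hW₁⟩ := hG W₁ (Module.Finite.iff_fg.mp h1)
  obtain ⟨T', O', j', e', s', hT', hK', hW₂⟩ := hG' W₂ (Module.Finite.iff_fg.mp h2)
  refine ⟨extMod T T', extMod O O', TensorProduct.map j j', e ⊗ₜ[k] e', sProd s s',
    isLat_ext hT hT', hK.prod hK', ?_⟩
  refine (Submodule.span_le.mpr h3).trans ?_
  rintro _ ⟨z, rfl⟩
  induction z using TensorProduct.induction_on with
  | zero => simp
  | add x y hx hy => rw [map_add]; exact add_mem hx hy
  | tmul a b =>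
    obtain ⟨o, ho⟩ := hW₁ a.2
    obtain ⟨o', ho'⟩ := hW₂ b.2
    exact ⟨o ⊗ₜ[k] o', by simp [TensorProduct.mapIncl, ho, ho']⟩

end Prod

end Groth.Agent.ResProp.EF.K749
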