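import Groth.Agent.ResProp.EF.K749.OutProd

/-! # `Out p G` depends only on the bialgebra `O(G)` -/

set_option autoImplicit false

universe u

open TensorProduct

noncomputable section

namespace Groth.Agent.ResProp.EF.K749

open Grp

variable {k : Type u} [CommRing k] {G G' : Gp k}

theorem coact_res (φ : G.O →ₐc[k] G'.O) (M : GMod G) (m : M.V) :
    (M.res φ).co.coact m = (φ : G.O →ₐ[k] G'.O).toLinearMap.lTensor M.V (M.co.coact m) := rfl

theorem tens_res_coact (φ : G.O →ₐc[k] G'.O) (M N : GMod G) (z : M.V ⊗[k] N.V) :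
    ((M.res φ).tens (N.res φ)).co.coact z =
      (φ : G.O →ₐ[k] G'.O).toLinearMap.lTensor (M.V ⊗[k] N.V) ((M.tens N).co.coact z) := by
  have h : ((M.res φ).tens (N.res φ)).co.coact =
      (φ : G.O →ₐ[k] G'.O).toLinearMap.lTensor (M.V ⊗[k] N.V) ∘ₗ (M.tens N).co.coact := by
    refine TensorProduct.ext' fun o t => ?_
    rw [LinearMap.comp_apply, coact_tens, coact_tens, coact_res, coact_res]
    generalize M.co.coact o = x
    generalize N.co.coact t = y
    induction x using TensorProduct.induction_on with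
    | zero => simp
    | add x x' hx hx' => simp only [map_add, TensorProduct.add_tmul, hx, hx']
    | tmul m a =>
      induction y using TensorProduct.induction_on with
      | zero => simp
      | add y y' hy hy' => simp only [map_add, TensorProduct.tmul_add, hy, hy']
      | tmul n b => simp
  exact LinearMap.congr_fun h z

theorem KillPair.iso {p : ℕ} {T O : GMod G} {j : O.V →ₗ[k] G.O} {e : O.V}
    {s : O.V ⊗[k] T.V →ₗ[k] T.V} (h : KillPair p T O j e s) (φ : G.O ≃ₐc[k] G'.O) :
    KillPair p (T.res (φ : G.O →ₐc[k] G'.O)) (O.res (φ : G.O →ₐc[k] G'.O))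
      (((φ : G.O →ₐc[k] G'.O) : G.O →ₐ[k] G'.O).toLinearMap ∘ₗ j) e s where
  freeO := h.freeO
  inj := by
    intro o a ha
    refine h.inj o (φ.symm a) ?_
    have h1 : φ (j o) = (p : k) • a := ha
    have h2 : j o = φ.symm ((p : k) • a) := by
      rw [← h1]; exact (φ.symm_apply_apply (j o)).symm
    rw [h2, map_smul]
  hom_j := by
    intro o
    have h1 : (CoalgebraStruct.comul (R := k) (A := G'.O)) (φ (j o)) =
        TensorProduct.map ((φ : G.O →ₐc[k] G'.O) : G.O →ₐ[k] G'.O).toLinearMap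
          ((φ : G.O →ₐc[k] G'.O) : G.O →ₐ[k] G'.O).toLinearMap
          (CoalgebraStruct.comul (R := k) (A := G.O) (j o)) :=
      (LinearMap.congr_fun ((φ : G.O →ₐc[k] G'.O) : G.O →ₗc[k] G'.O).map_comp_comul (j o)).symm
    rw [coact_res]
    refine h1.trans ?_
    rw [h.hom_j]
    generalize O.co.coact o = x
    induction x using TensorProduct.induction_on with
    | zero => simp
    | add x y hx hy => simp only [map_add, hx, hy]
    | tmul m a => simp
  j_e := by
    change φ (j e) = 1
    rw [h.j_e, map_one]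
  inv_e := by
    rw [coact_res, h.inv_e, LinearMap.lTensor_tmul]
    congr 1
    exact map_one φ
  unit := h.unit
  hom_s := by
    intro z
    obtain ⟨w, hw⟩ := h.hom_s z
    refine ⟨((φ : G.O →ₐc[k] G'.O) : G.O →ₐ[k] G'.O).toLinearMap.lTensor T.V w, ?_⟩
    rw [← map_smul, ← hw, map_sub, coact_res]
    congr 1
    have nat : ∀ y : (O.V ⊗[k] T.V) ⊗[k] G.O,
        s.rTensor G'.O (((φ : G.O →ₐc[k] G'.O) : G.O →ₐ[k] G'.O).toLinearMap.lTensor _ y) =
        ((φ : G.O →ₐc[k] G'.O) : G.O →ₐ[k] G'.O).toLinearMap.lTensor T.V (s.rTensor G.O y) := by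
      intro y
      induction y using TensorProduct.induction_on with
      | zero => simp
      | add x y hx hy => simp only [map_add, hx, hy]
      | tmul m a => simp
    rw [← nat, tens_res_coact]

theorem Out.iso {p : ℕ} (h : Out p G) (φ : G.O ≃ₐc[k] G'.O) : Out p G' := by
  intro W hW
  obtain ⟨T, O, j, e, s, hT, hK, hj⟩ :=
    h (W.map ((φ.symm : G'.O →ₐc[k] G.O) : G'.O →ₐ[k] G.O).toLinearMap) (hW.map _)
  refine ⟨T.res (φ : G.O →ₐc[k] G'.O), O.res (φ : G.O →ₐc[k] G'.O), _, e, s,
    ⟨hT.free, hT.fin, hT.nontriv⟩, hK.iso φ, ?_⟩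
  intro w hw
  obtain ⟨o, ho⟩ := hj (Submodule.mem_map_of_mem hw)
  refine ⟨o, ?_⟩
  change φ (j o) = w
  rw [ho]
  exact φ.apply_symm_apply w

end Groth.Agent.ResProp.EF.K749
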